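import Cfsg.Agent.H755.Sd.Par

/-!
# S4612 [PSL-D4]: two diagonal blocks (helper154)

`bd a b : GL a × GL b →* GL (a + b)`, the parabolic subgroup `PB F (bb a b)` of the block triangular matrices with two
blocks, its projection `pr` on the Levi factor, whose kernel has no element of prime order `p ≠ char F`.
-/

set_option autoImplicit false

namespace Cfsg.Agent.H154.PQL

open Matrix
open Cfsg.Agent.H755.Sd.Par Cfsg.Agent.H755.Sd.Syl
open scoped MatrixGroups

variable {F : Type*} [Field F] {a b : ℕ}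

/-- block diagonal matrices -/
def bdM (F : Type*) [Field F] (a b : ℕ) :
    Matrix (Fin a) (Fin a) F × Matrix (Fin b) (Fin b) F →* Matrix (Fin (a + b)) (Fin (a + b)) F where
  toFun X := (fromBlocks X.1 0 0 X.2).submatrix finSumFinEquiv.symm finSumFinEquiv.symm
  map_one' := by
    show (fromBlocks (1 : Matrix (Fin a) (Fin a) F) 0 0 (1 : Matrix (Fin b) (Fin b) F)).submatrix _ _ = 1
    rw [fromBlocks_one, submatrix_one_equiv]
  map_mul' X Y := by
    show (fromBlocks (X.1 * Y.1) 0 0 (X.2 * Y.2)).submatrix _ _ = _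
    rw [submatrix_mul_equiv, fromBlocks_multiply]
    simp

/-- block diagonal matrices -/
def bd (F : Type*) [Field F] (a b : ℕ) : GL (Fin a) F × GL (Fin b) F →* GL (Fin (a + b)) F :=
  (Units.map (bdM F a b)).comp MulEquiv.prodUnits.symm.toMonoidHom

theorem coe_bd (X : GL (Fin a) F × GL (Fin b) F) : (bd F a b X).val =
    (fromBlocks (X.1 : Matrix (Fin a) (Fin a) F) 0 0 (X.2 : Matrix (Fin b) (Fin b) F)).submatrix
      finSumFinEquiv.symm finSumFinEquiv.symm := rfl

theorem bd_injective : Function.Injective (bd F a b) := by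
  intro X Y h
  have h1 := congrArg (fun g : GL (Fin (a + b)) F => g.val.submatrix finSumFinEquiv finSumFinEquiv) h
  simp only [coe_bd, submatrix_submatrix, Equiv.symm_comp_self, submatrix_id_id] at h1
  rw [fromBlocks_inj] at h1
  exact Prod.ext (Units.ext h1.1) (Units.ext h1.2.2.2)

theorem det_bd (X : GL (Fin a) F × GL (Fin b) F) : (bd F a b X).val.det =
    (X.1 : Matrix (Fin a) (Fin a) F).det * (X.2 : Matrix (Fin b) (Fin b) F).det := by
  rw [coe_bd, det_submatrix_equiv_self, det_fromBlocks_zero₂₁]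

theorem bd_dgl (t : Fin a → Fˣ) (u : Fin b → Fˣ) : bd F a b (dgl t, dgl u) = dgl (Fin.append t u) := by
  apply Units.ext
  rw [coe_bd, coe_dgl, coe_dgl, coe_dgl, fromBlocks_diagonal, submatrix_diagonal_equiv]
  congr 1
  funext i
  refine Fin.addCases (fun i => ?_) (fun i => ?_) i
  · simp
  · simp

/-- the block map -/
def bb (a b : ℕ) : Fin (a + 1 + (b + 1)) → Fin (a + 1 + (b + 1)) :=
  Fin.append (fun _ => Fin.castAdd (b + 1) 0) (fun _ => Fin.natAdd (a + 1) 0)

theorem bb_left (i : Fin (a + 1)) : bb a b (Fin.castAdd (b + 1) i) = Fin.castAdd (b + 1) 0 := by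
  rw [bb, Fin.append_left]

theorem bb_right (i : Fin (b + 1)) : bb a b (Fin.natAdd (a + 1) i) = Fin.natAdd (a + 1) 0 := by
  rw [bb, Fin.append_right]

theorem bb_lt (i : Fin (a + 1)) (j : Fin (b + 1)) :
    bb a b (Fin.castAdd (b + 1) i) < bb a b (Fin.natAdd (a + 1) j) := by
  rw [bb_left, bb_right, Fin.lt_def]
  simp

theorem low {g : GL (Fin (a + 1 + (b + 1))) F} (hg : g ∈ PB F (bb a b)) (i : Fin (a + 1)) (j : Fin (b + 1)) :
    g.val (Fin.natAdd (a + 1) j) (Fin.castAdd (b + 1) i) = 0 := hg (bb_lt i j)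

theorem mem_PB_iff {g : GL (Fin (a + 1 + (b + 1))) F} : g ∈ PB F (bb a b) ↔
    ∀ (i : Fin (a + 1)) (j : Fin (b + 1)),
      g.val (Fin.natAdd (a + 1) j) (Fin.castAdd (b + 1) i) = 0 := by
  refine ⟨low, fun h => ?_⟩
  rw [mem_PB]
  intro i j
  refine Fin.addCases (fun i => ?_) (fun i => ?_) i <;> refine Fin.addCases (fun j => ?_) (fun j => ?_) j
  · intro hij
    rw [bb_left, bb_left] at hij
    exact absurd hij (lt_irrefl _)
  · intro hij
    exact absurd (bb_lt i j) (not_lt.2 hij.le)
  · intro _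
    exact h j i
  · intro hij
    rw [bb_right, bb_right] at hij
    exact absurd hij (lt_irrefl _)

theorem bd_mem (X : GL (Fin (a + 1)) F × GL (Fin (b + 1)) F) : bd F (a + 1) (b + 1) X ∈ PB F (bb a b) := by
  rw [mem_PB_iff]
  intro i j
  rw [coe_bd, submatrix_apply, finSumFinEquiv_symm_apply_castAdd, finSumFinEquiv_symm_apply_natAdd]
  rfl

/-- the first diagonal block -/
def prA (F : Type*) [Field F] (a b : ℕ) : PB F (bb a b) →* Matrix (Fin (a + 1)) (Fin (a + 1)) F where
  toFun g := g.1.val.submatrix (Fin.castAdd (b + 1)) (Fin.castAdd (b + 1))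
  map_one' := by
    ext i j
    simp [Matrix.one_apply]
  map_mul' x y := by
    ext i j
    rw [submatrix_apply]
    show (x.1.val * y.1.val) _ _ = _
    have h0 : ∑ l : Fin (b + 1), x.1.val (Fin.castAdd (b + 1) i) (Fin.natAdd (a + 1) l) *
        y.1.val (Fin.natAdd (a + 1) l) (Fin.castAdd (b + 1) j) = 0 :=
      Finset.sum_eq_zero fun l _ => by rw [low y.2, mul_zero]
    rw [Matrix.mul_apply, Fin.sum_univ_add, h0, add_zero, Matrix.mul_apply]
    rfl

/-- the second diagonal block -/
def prB (F : Type*) [Field F] (a b : ℕ) : PB F (bb a b) →* Matrix (Fin (b + 1)) (Fin (b + 1)) F where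
  toFun g := g.1.val.submatrix (Fin.natAdd (a + 1)) (Fin.natAdd (a + 1))
  map_one' := by
    ext i j
    simp [Matrix.one_apply]
  map_mul' x y := by
    ext i j
    rw [submatrix_apply]
    show (x.1.val * y.1.val) _ _ = _
    have h0 : ∑ l : Fin (a + 1), x.1.val (Fin.natAdd (a + 1) i) (Fin.castAdd (b + 1) l) *
        y.1.val (Fin.castAdd (b + 1) l) (Fin.natAdd (a + 1) j) = 0 := Finset.sum_eq_zero fun l _ => by rw [low x.2, zero_mul]
    rw [Matrix.mul_apply, Fin.sum_univ_add, h0, zero_add, Matrix.mul_apply]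
    rfl

/-- the projection on the Levi factor -/
noncomputable def pr (F : Type*) [Field F] (a b : ℕ) :
    PB F (bb a b) →* GL (Fin (a + 1)) F × GL (Fin (b + 1)) F :=
  (prA F a b).toHomUnits.prod (prB F a b).toHomUnits

/-- The kernel of the projection on the Levi factor has no elements of order `p ≠ char F`. -/
theorem ker_pr {p : ℕ} (hp : (p : F) ≠ 0) {g : PB F (bb a b)} (hg : g ∈ (pr F a b).ker) (hgp : g ^ p = 1) :
    g = 1 := by
  have hgA : prA F a b g = 1 := congrArg Units.val (congrArg Prod.fst hg)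
  have hgB : prB F a b g = 1 := congrArg Units.val (congrArg Prod.snd hg)
  set M : Matrix (Fin (a + 1 + (b + 1))) (Fin (a + 1 + (b + 1))) F := g.1.val with hM
  obtain ⟨X, hX⟩ : ∃ X, M = 1 + X := ⟨M - 1, by abel⟩
  have hX' : X = M - 1 := by rw [hX]; abel
  have h1 : ∀ i j, X (Fin.castAdd (b + 1) i) (Fin.castAdd (b + 1) j) = 0 := by
    intro i j
    have := congrFun (congrFun hgA i) j
    change M (Fin.castAdd (b + 1) i) (Fin.castAdd (b + 1) j) = _ at this
    rw [hX', Matrix.sub_apply, this, Matrix.one_apply, Matrix.one_apply]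
    simp
  have h2 : ∀ i j, X (Fin.natAdd (a + 1) i) (Fin.natAdd (a + 1) j) = 0 := by
    intro i j
    have := congrFun (congrFun hgB i) j
    change M (Fin.natAdd (a + 1) i) (Fin.natAdd (a + 1) j) = _ at this
    rw [hX', Matrix.sub_apply, this, Matrix.one_apply, Matrix.one_apply]
    simp
  have h3 : ∀ i j, X (Fin.natAdd (a + 1) i) (Fin.castAdd (b + 1) j) = 0 := by
    intro i j
    rw [hX', Matrix.sub_apply, hM, low g.2, Matrix.one_apply, if_neg, sub_zero]
    intro h
    have := congrArg Fin.val h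
    simp at this
    omega
  have hXX : X * X = 0 := by
    ext i j
    rw [Matrix.mul_apply, Fin.sum_univ_add, Matrix.zero_apply]
    refine Fin.addCases (fun i => ?_) (fun i => ?_) i
    · rw [Finset.sum_eq_zero (fun l _ => by rw [h1, zero_mul] : ∀ l ∈ _, _ = (0 : F)), zero_add]
      refine Finset.sum_eq_zero fun l _ => ?_
      refine Fin.addCases (fun j => ?_) (fun j => ?_) j
      · rw [h3, mul_zero]
      · rw [h2, mul_zero]
    · rw [Finset.sum_eq_zero (fun l _ => by rw [h3, zero_mul] : ∀ l ∈ _, _ = (0 : F)), zero_add]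
      refine Finset.sum_eq_zero fun l _ => ?_
      rw [h2, zero_mul]
  have hpow : ∀ k : ℕ, (1 + X) ^ k = 1 + (k : F) • X := by
    intro k
    induction k with
    | zero => simp
    | succ k ih =>
      rw [pow_succ, ih, mul_add, mul_one, add_mul, one_mul, Matrix.smul_mul, hXX, smul_zero, add_zero, Nat.cast_succ,
        add_smul, one_smul]
      abel
  have h4 : M ^ p = 1 := by
    have := congrArg (fun g : PB F (bb a b) => g.1.val) hgp
    simpa using this
  rw [hX, hpow] at h4
  have h5 : (p : F) • X = 0 := by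
    have := congrArg (fun Y => Y - 1) h4
    simpa using this
  have h6 : X = 0 := (smul_eq_zero.1 h5).resolve_left hp
  apply Subtype.ext
  apply Units.ext
  show M = 1
  rw [hX, h6, add_zero]

/-- `A ↦ diag(A, (det A)⁻¹)` -/
noncomputable def jj (F : Type*) [Field F] (a : ℕ) : GL (Fin a) F →* GL (Fin (a + 1)) F :=
  (bd F a 1).comp ((MonoidHom.id _).prod ((dgl (F := F) (n := 1)).comp
    (MonoidHom.pi fun _ => (Matrix.GeneralLinearGroup.det (n := Fin a) (R := F))⁻¹)))

theorem jj_apply (A : GL (Fin a) F) :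
    jj F a A = bd F a 1 (A, dgl fun _ => (Matrix.GeneralLinearGroup.det A)⁻¹) := rfl

theorem jj_injective : Function.Injective (jj F a) := by
  intro A B h
  rw [jj_apply, jj_apply] at h
  exact congrArg Prod.fst (bd_injective h)

theorem det_jj (A : GL (Fin a) F) : (jj F a A).val.det = 1 := by
  rw [jj_apply, det_bd]
  show _ * (dgl _ : GL (Fin 1) F).val.det = 1
  rw [coe_dgl, det_diagonal, Fin.prod_univ_one, ← Matrix.GeneralLinearGroup.val_det_apply, ← Units.val_mul,
    mul_inv_cancel, Units.val_one]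

/-- the diagonal element `(1, …, 1, -1)` -/
def tt (F : Type*) [Field F] (a : ℕ) : Fin (a + 1) → Fˣ := Fin.append (fun _ => 1) (fun _ => -1)

theorem tt_comm (A : GL (Fin a) F) : jj F a A * dgl (tt F a) = dgl (tt F a) * jj F a A := by
  have h1 : dgl (tt F a) = bd F a 1 (1, dgl fun _ => -1) := by
    rw [tt, ← bd_dgl]
    exact congrArg (bd F a 1) (Prod.ext (map_one (dgl (F := F) (n := a))) rfl)
  rw [h1, jj_apply, ← map_mul, ← map_mul]
  congr 1
  refine Prod.ext ?_ ?_
  · show A * 1 = 1 * A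
    rw [mul_one, one_mul]
  · show dgl _ * dgl _ = dgl _ * dgl _
    rw [← map_mul, ← map_mul, mul_comm]

/-- the embedding of `GL a × GL b` in the centralizer of `z` -/
noncomputable def ii (F : Type*) [Field F] (a b : ℕ) :
    GL (Fin a) F × GL (Fin b) F →* GL (Fin (a + 1 + (b + 1))) F :=
  (bd F (a + 1) (b + 1)).comp ((jj F a).prodMap (jj F b))

theorem ii_injective : Function.Injective (ii F a b) := by
  intro X Y h
  have h1 := bd_injective (show bd F (a + 1) (b + 1) (jj F a X.1, jj F b X.2) =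
    bd F (a + 1) (b + 1) (jj F a Y.1, jj F b Y.2) from h)
  rw [Prod.mk.injEq] at h1
  exact Prod.ext (jj_injective h1.1) (jj_injective h1.2)

theorem ii_mem (X : GL (Fin a) F × GL (Fin b) F) : ii F a b X ∈ PB F (bb a b) := bd_mem _

theorem det_ii (X : GL (Fin a) F × GL (Fin b) F) :
    (ii F a b X).val.det = 1 := by
  show (bd F (a + 1) (b + 1) (jj F a X.1, jj F b X.2)).val.det = 1
  rw [det_bd, det_jj, det_jj, mul_one]

theorem ii_comm (X : GL (Fin a) F × GL (Fin b) F) :
    ii F a b X * dgl (Fin.append (tt F a) (tt F b)) = dgl (Fin.append (tt F a) (tt F b)) * ii F a b X := by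
  rw [← bd_dgl]
  show bd F (a + 1) (b + 1) (jj F a X.1, jj F b X.2) * _ = _ * bd F (a + 1) (b + 1) (jj F a X.1, jj F b X.2)
  rw [← map_mul, ← map_mul]
  congr 1
  exact Prod.ext (tt_comm _) (tt_comm _)

end Cfsg.Agent.H154.PQL
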